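import Mathlib
import Groth.Agent.ProjMap.Basic
import Groth.Agent.ProjMap.Bilin

/-!
# Linear automorphisms of projective space
-/

set_option autoImplicit false
set_option backward.isDefEq.respectTransparency false
set_option linter.style.haveILetI false

universe u

open CategoryTheory AlgebraicGeometry MvPolynomial HomogeneousLocalization
open Groth.Agent

noncomputable section

namespace Groth.Agent.PnAutLib

variable {n : ℕ} {R : Type u} [CommRing R]

local notation "𝒢" => CohB1.polyGrading n R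
local notation "ℙn" => CohB1.ProjSpace n R

/-- The substitution by a matrix. -/
def linSub (M : Matrix (Fin (n + 1)) (Fin (n + 1)) R) :
    MvPolynomial (Fin (n + 1)) R →ₐ[R] MvPolynomial (Fin (n + 1)) R :=
  aeval fun i => ∑ j, C (M i j) * X j

theorem linSub_X (M : Matrix (Fin (n + 1)) (Fin (n + 1)) R) (i : Fin (n + 1)) :
    linSub M (X i) = ∑ j, C (M i j) * X j := aeval_X _ _

theorem isHomogeneous_linX (M : Matrix (Fin (n + 1)) (Fin (n + 1)) R) (i : Fin (n + 1)) :
    (∑ j, C (M i j) * X j : MvPolynomial (Fin (n + 1)) R).IsHomogeneous 1 :=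
  IsHomogeneous.sum _ _ _ fun j _ => (isHomogeneous_X R j).C_mul _

theorem linSub_mul (M N : Matrix (Fin (n + 1)) (Fin (n + 1)) R) :
    linSub (M * N) = (linSub N).comp (linSub M) := by
  refine algHom_ext fun i => ?_
  rw [AlgHom.comp_apply, linSub_X, linSub_X, map_sum]
  simp only [map_mul, linSub, aeval_C, algebraMap_eq, aeval_X, Matrix.mul_apply, map_sum,
    Finset.sum_mul, Finset.mul_sum, mul_assoc]
  rw [Finset.sum_comm]

theorem linSub_one : linSub (1 : Matrix (Fin (n + 1)) (Fin (n + 1)) R) = AlgHom.id R _ := by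
  refine algHom_ext fun i => ?_
  rw [linSub_X, Finset.sum_eq_single i (fun j _ hj => by simp [Matrix.one_apply_ne hj.symm]) (by simp)]
  simp

/-- The substitution as a graded map. -/
def linGr (M : Matrix (Fin (n + 1)) (Fin (n + 1)) R) : 𝒢 →+*ᵍ 𝒢 :=
  { toRingHom := (linSub M).toRingHom
    map_mem := fun {i} {x} hx => by
      show linSub M x ∈ 𝒢 i
      have h := (hx : x.IsHomogeneous i).eval₂ (C : R →+* MvPolynomial (Fin (n + 1)) R)
        (fun i => ∑ j, C (M i j) * X j) (fun r => isHomogeneous_C _ r) (isHomogeneous_linX M)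
      rw [one_mul] at h
      exact h }

theorem linGr_mul (M N : Matrix (Fin (n + 1)) (Fin (n + 1)) R) :
    linGr (M * N) = (linGr N).comp (linGr M) :=
  DFunLike.ext _ _ fun x => by
    show linSub (M * N) x = linSub N (linSub M x)
    rw [linSub_mul]; rfl

theorem irrelevant_le (M : GL (Fin (n + 1)) R) :
    HomogeneousIdeal.irrelevant 𝒢 ≤ (HomogeneousIdeal.irrelevant 𝒢).map (linGr (M : Matrix (Fin (n + 1)) (Fin (n + 1)) R)) := by
  show (HomogeneousIdeal.irrelevant 𝒢).toIdeal ≤ _
  rw [HomogeneousIdeal.toIdeal_irrelevant_le]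
  intro i hi x hx
  let g := linGr (n := n) ((M⁻¹ : GL (Fin (n + 1)) R) : Matrix (Fin (n + 1)) (Fin (n + 1)) R)
  have h1 : linGr (M : Matrix (Fin (n + 1)) (Fin (n + 1)) R) (g x) = x := by
    show linSub _ (linSub _ x) = x
    rw [← AlgHom.comp_apply, ← linSub_mul, ← Units.val_mul, inv_mul_cancel, Units.val_one, linSub_one]
    rfl
  rw [← h1]
  exact Ideal.mem_map_of_mem _ (HomogeneousIdeal.mem_irrelevant_of_mem 𝒢 hi (g.map_mem hx))

/-- The linear automorphism of projective space. -/
def Lin (M : GL (Fin (n + 1)) R) : ℙn ⟶ ℙn :=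
  Proj.map (linGr (M : Matrix (Fin (n + 1)) (Fin (n + 1)) R)) (irrelevant_le M)

variable {A : Type u} [CommRing A] [Algebra R A]

theorem point_chartG (v : Fin (n + 1) → A) (c : Fin (n + 1)) (hc : IsUnit (v c))
    {G : MvPolynomial (Fin (n + 1)) R} (hG : G ∈ 𝒢 1) (hu : IsUnit (aeval v G)) :
    Spec.map (CommRingCat.ofHom (ProjMap.evalAway v G hu)) ≫ Proj.awayι 𝒢 G hG one_pos =
      ProjMap.point (R := R) v c hc := by
  have hP : IsUnit (aeval v ((X c : MvPolynomial (Fin (n + 1)) R) * G)) := by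
    simpa using hc.mul hu
  have h1 := ProjMap.evalAway_comp_awayMap (v := v) (ProjMap.X_mem c) hG
    (P := (X c : MvPolynomial (Fin (n + 1)) R) * G) rfl (by simpa using hc) hP
  have h2 := ProjMap.evalAway_comp_awayMap (v := v) hG (ProjMap.X_mem c)
    (P := (X c : MvPolynomial (Fin (n + 1)) R) * G) (mul_comm _ _) hu hP
  simp only [ProjMap.point, ← h1, ← h2, CommRingCat.ofHom_comp, Spec.map_comp, Category.assoc]
  congr 1
  exact (Proj.SpecMap_awayMap_awayι 𝒢 hG one_pos (ProjMap.X_mem c) (mul_comm _ _)).trans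
    (Proj.SpecMap_awayMap_awayι 𝒢 (ProjMap.X_mem (R := R) c) one_pos hG rfl).symm

theorem aeval_linX (M : Matrix (Fin (n + 1)) (Fin (n + 1)) R) (v : Fin (n + 1) → A) (i : Fin (n + 1)) :
    aeval v (linSub M (X i)) = Matrix.mulVec (M.map (algebraMap R A)) v i := by
  simp [linSub_X, Matrix.mulVec, dotProduct]

theorem point_Lin (M : GL (Fin (n + 1)) R) (v : Fin (n + 1) → A) (c : Fin (n + 1)) (hc : IsUnit (v c))
    (w : Fin (n + 1) → A) (hw : Matrix.mulVec ((M : Matrix (Fin (n + 1)) (Fin (n + 1)) R).map (algebraMap R A)) v = w)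
    (a : Fin (n + 1)) (ha : IsUnit (w a)) :
    ProjMap.point (R := R) v c hc ≫ Lin M = ProjMap.point w a ha := by
  let f := linGr (n := n) (M : Matrix (Fin (n + 1)) (Fin (n + 1)) R)
  have hev : ∀ i, aeval v (f (X i)) = w i := fun i => by rw [← hw]; exact aeval_linX _ v i
  have hu : IsUnit (aeval v (f (X a))) := hev a ▸ ha
  rw [← point_chartG v c hc (f.map_mem (ProjMap.X_mem a)) hu]
  refine (Category.assoc _ _ _).trans ?_
  refine (congrArg (Spec.map (CommRingCat.ofHom (ProjMap.evalAway v (f (X a)) hu)) ≫ ·)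
    (Proj.awayι_comp_map f (irrelevant_le M) one_pos (X a) (ProjMap.X_mem a))).trans ?_
  rw [← Category.assoc, ← Spec.map_comp, ← CommRingCat.ofHom_comp]
  have hcomp : ∀ p, aeval w p = aeval v (f p) := fun p => by
    have : (aeval v).comp (linSub (M : Matrix (Fin (n + 1)) (Fin (n + 1)) R)) = aeval w :=
      algHom_ext fun i => by
        rw [AlgHom.comp_apply, aeval_X]
        exact hev i
    rw [← this]
    rfl
  have h : (ProjMap.evalAway v (f (X a)) hu).comp (Away.map f (X a)) =
      ProjMap.evalAway w (X a) (by simpa using ha) := by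
    refine ProjMap.ringHom_eq_evalAway (ProjMap.X_mem a) _ _ fun k p hp => ?_
    rw [RingHom.comp_apply, hcomp, hcomp]
    have h3 := ProjMap.evalAway_mk (v := v) (f.map_mem (ProjMap.X_mem a)) hu k (f p) (f.map_mem hp)
    rw [show Away.map f (X a) (Away.mk 𝒢 (ProjMap.X_mem a) k p hp) =
      Away.mk 𝒢 (f.map_mem (ProjMap.X_mem a)) k (f p) (f.map_mem hp) from Away.map_mk f _ (ProjMap.X_mem a) k p hp]
    exact h3
  rw [h]
  rfl

theorem Lin_mul (M N : GL (Fin (n + 1)) R) : Lin (M * N) = Lin N ≫ Lin M := by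
  unfold Lin
  rw [← Proj.map_comp]
  congr 1
  rw [Units.val_mul, linGr_mul]

theorem Lin_one : Lin (1 : GL (Fin (n + 1)) R) = 𝟙 ℙn := by
  unfold Lin
  refine Eq.trans ?_ Proj.map_id
  congr 1
  rw [Units.val_one]
  exact DFunLike.ext _ _ fun x => by
    show linSub 1 x = x
    rw [linSub_one]; rfl

/-- Endomorphisms agreeing on the universal points of the charts agree. -/
theorem hom_ext_charts {Y : Scheme.{u}} {f g : ℙn ⟶ Y}
    (h : ∀ c : Fin (n + 1), ProjMap.chart c ≫ f = ProjMap.chart c ≫ g) : f = g := by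
  refine Scheme.hom_ext_of_forall _ _ fun x => ?_
  obtain ⟨c, hc⟩ := ProjMap.exists_chart R x
  let U := (ProjMap.chart (R := R) c).opensRange
  refine ⟨U, hc, ?_⟩
  rw [← IsOpenImmersion.lift_fac (ProjMap.chart (R := R) c) U.ι (by rw [Scheme.Opens.range_ι]; rfl),
    Category.assoc, Category.assoc, h c]

theorem toSpec_Lin (M : GL (Fin (n + 1)) R) :
    Lin M ≫ CohB1.ProjSpace.toSpec n R = CohB1.ProjSpace.toSpec n R := by
  refine hom_ext_charts fun c => ?_
  let A := Away 𝒢 (X c : MvPolynomial (Fin (n + 1)) R)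
  letI : Algebra R A := ((fromZeroRingHom _ _).comp (algebraMap R (𝒢 0))).toAlgebra
  have hφ : ProjMap.IsAlg c (RingHom.id A) := fun r => rfl
  have h0 : ProjMap.point (R := R) (ProjMap.coords c (RingHom.id A)) c (by simp) = ProjMap.chart c := by
    rw [ProjMap.point_coords _ _ hφ]; exact (congrArg (· ≫ _) (Spec.map_id _)).trans (Category.id_comp _)
  let f := linGr (n := n) (M : Matrix (Fin (n + 1)) (Fin (n + 1)) R)
  rw [← h0, ← Category.assoc]
  -- the open pieces on which a coordinate of the image is invertible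
  let w := Matrix.mulVec ((M : Matrix (Fin (n + 1)) (Fin (n + 1)) R).map (algebraMap R A)) (ProjMap.coords c (RingHom.id A))
  have hspan : Ideal.span (Set.range w) = ⊤ := by
    rw [Ideal.eq_top_iff_one]
    have hv : ProjMap.coords c (RingHom.id A) =
        Matrix.mulVec (((M⁻¹ : GL (Fin (n + 1)) R) : Matrix (Fin (n + 1)) (Fin (n + 1)) R).map (algebraMap R A)) w := by
      rw [Matrix.mulVec_mulVec, ← RingHom.mapMatrix_apply, ← RingHom.mapMatrix_apply, ← map_mul,
        ← Units.val_mul, inv_mul_cancel, Units.val_one, map_one, Matrix.one_mulVec]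
    rw [show (1 : A) = ProjMap.coords c (RingHom.id A) c from (ProjMap.coords_self c (RingHom.id A)).symm, hv]
    simp only [Matrix.mulVec, dotProduct]
    exact Ideal.sum_mem _ fun j _ => Ideal.mul_mem_left _ _ (Ideal.subset_span (Set.mem_range_self j))
  refine (Scheme.affineOpenCoverOfSpanRangeEqTop (R := CommRingCat.of A) w hspan).openCover.hom_ext _ _ fun a => ?_
  let B := Localization.Away (w a)
  show Spec.map (CommRingCat.ofHom (algebraMap A B)) ≫ _ = Spec.map (CommRingCat.ofHom (algebraMap A B)) ≫ _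
  have hb : ∀ r, algebraMap A B (algebraMap R A r) = algebraMap R B r := fun r =>
    (IsScalarTower.algebraMap_apply R A B r).symm
  have hua : IsUnit (algebraMap A B (w a)) := IsLocalization.Away.algebraMap_isUnit _
  rw [← Category.assoc, ← Category.assoc, ← Category.assoc, ProjMap.specMap_point _ hb,
    point_Lin M _ c _ (fun i => algebraMap A B (w i)) ?_ a hua, ProjMap.point_toSpec, ProjMap.point_toSpec]
  rw [show ((M : Matrix (Fin (n + 1)) (Fin (n + 1)) R).map (algebraMap R B)) =
    ((M : Matrix (Fin (n + 1)) (Fin (n + 1)) R).map (algebraMap R A)).map (algebraMap A B) by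
      ext i j; simp [hb]]
  funext i
  exact (RingHom.map_mulVec _ _ _ i).symm

/-- The linear automorphisms as a homomorphism. -/
def LinHom : GL (Fin (n + 1)) R →* Aut (Over.mk (CohB1.ProjSpace.toSpec n R)) where
  toFun M := Over.isoMk
    { hom := Lin M
      inv := Lin M⁻¹
      hom_inv_id := by rw [← Lin_mul, inv_mul_cancel, Lin_one]; rfl
      inv_hom_id := by rw [← Lin_mul, mul_inv_cancel, Lin_one]; rfl } (toSpec_Lin M)
  map_one' := Iso.ext (Over.OverMorphism.ext Lin_one)
  map_mul' M N := Iso.ext (Over.OverMorphism.ext (Lin_mul M N))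

theorem LinHom_hom_left (M : GL (Fin (n + 1)) R) : (LinHom (n := n) M).hom.left = Lin M := rfl

theorem Lin_scalar (r : Rˣ) :
    Lin (Units.map (Matrix.scalar (Fin (n + 1)) : R →+* Matrix (Fin (n + 1)) (Fin (n + 1)) R).toMonoidHom r) = 𝟙 ℙn := by
  refine hom_ext_charts fun c => ?_
  let A := Away 𝒢 (X c : MvPolynomial (Fin (n + 1)) R)
  letI : Algebra R A := ((fromZeroRingHom _ _).comp (algebraMap R (𝒢 0))).toAlgebra
  have hφ : ProjMap.IsAlg c (RingHom.id A) := fun s => rfl
  have h0 : ProjMap.point (R := R) (ProjMap.coords c (RingHom.id A)) c (by simp) = ProjMap.chart c := by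
    rw [ProjMap.point_coords _ _ hφ]; exact (congrArg (· ≫ _) (Spec.map_id _)).trans (Category.id_comp _)
  rw [Category.comp_id, ← h0]
  let v := ProjMap.coords c (RingHom.id A)
  have hu : IsUnit (algebraMap R A r * v c) := by
    simp only [v, ProjMap.coords_self, mul_one]
    exact r.isUnit.map _
  rw [point_Lin _ v c _ (fun i => algebraMap R A r * v i) ?_ c hu]
  · exact ProjMap.point_smul v _ (algebraMap R A r) (fun _ => rfl) c (by simp [v]) hu
  · funext i
    simp [Matrix.mulVec, dotProduct, Matrix.scalar, Matrix.diagonal_apply, apply_ite (algebraMap R A)]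

end Groth.Agent.PnAutLib
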