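import Groth.Agent.PnAutLib.Lin
import Groth.Agent.ASBunKS.TwistPull
import Groth.Agent.ProjTwist.Zero
import Groth.Agent.AmpleEmb.Ratio

/-!
# Automorphisms of projective space over a field are linear
-/

set_option autoImplicit false
set_option backward.isDefEq.respectTransparency false
set_option linter.style.haveILetI false

universe u

open CategoryTheory AlgebraicGeometry TopologicalSpace Opposite
open Groth.Agent Groth.Agent.AmpleLib Groth.Agent.AmpleEmb Groth.Agent.PicProjLib Groth.Agent.ParaFLib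
open Groth.Agent.PullbackMod Groth.Agent.DCohLib Groth.Agent.ProjCoh

noncomputable section

namespace Groth.Agent.PnAutLib

variable {K : Type u} [Field K] {n : ℕ}

local notation "ℙn" => CohB1.ProjSpace n K

/-- Constants in a stalk. -/
def stalkCst (x : CohB1.ProjSpace n K) : K →+* (CohB1.ProjSpace n K).presheaf.stalk x :=
  ((ℙn).presheaf.germ ⊤ x trivial).hom.comp (ProjCoh.projφ (CohB1.polyGrading n K))

theorem fromSpecStalk_toSpec (x : CohB1.ProjSpace n K) :
    (ℙn).fromSpecStalk x ≫ CohB1.ProjSpace.toSpec n K = Spec.map (CommRingCat.ofHom (stalkCst x)) := by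
  have e : CohB1.ProjSpace.toSpec n K = (ℙn).toSpecΓ ≫
      Spec.map ((Scheme.ΓSpecIso (CommRingCat.of K)).inv ≫ (CohB1.ProjSpace.toSpec n K).appTop) := by
    rw [Spec.map_comp, ← Scheme.toSpecΓ_naturality_assoc, toSpecΓ_SpecMap_ΓSpecIso_inv, Category.comp_id]
  rw [e, Scheme.fromSpecStalk_toSpecΓ_assoc, ← Spec.map_comp]
  rfl

/-- The coordinates of a point with values in its local ring. -/
def ratioAt (x : CohB1.ProjSpace n K) (i : Fin (n + 1)) (hx : x ∈ stdOpen n K i) :
    Fin (n + 1) → (CohB1.ProjSpace n K).presheaf.stalk x :=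
  fun a => (ℙn).presheaf.germ (stdOpen n K i) x hx (coordRatio n K i a)

theorem ratioAt_self (x : CohB1.ProjSpace n K) (i : Fin (n + 1)) (hx : x ∈ stdOpen n K i) : ratioAt x i hx i = 1 := by
  have h : coordRatio n K i i = 1 :=
    (gen_coordSec n K i _ le_rfl).1 (by
      simp only [resT, res_res]
      exact (coordRatio_smul n K i i).trans (one_smul _ _).symm)
  rw [ratioAt, h, map_one]

theorem fromSpecStalk_eq_point (x : CohB1.ProjSpace n K) (i : Fin (n + 1)) (hx : x ∈ stdOpen n K i) :
    letI := (stalkCst x).toAlgebra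
    (ℙn).fromSpecStalk x = ProjMap.point (R := K) (ratioAt x i hx) i (by rw [ratioAt_self]; exact isUnit_one) := by
  letI := (stalkCst x).toAlgebra
  let hm := ProjMap.X_mem (R := K) (n := n) i
  let e := Proj.basicOpenIsoSpec (CohB1.polyGrading n K) (MvPolynomial.X i) hm one_pos
  let ψ : CommRingCat.of (HomogeneousLocalization.Away (CohB1.polyGrading n K) (MvPolynomial.X i : MvPolynomial (Fin (n + 1)) K)) ⟶
      (ℙn).presheaf.stalk x := Proj.awayToSection (CohB1.polyGrading n K) (MvPolynomial.X i) ≫ (ℙn).presheaf.germ _ x hx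
  have h1 : Spec.map ψ ≫ ProjMap.chart i = (ℙn).fromSpecStalk x := by
    have h2 : (stdOpen n K i).fromSpecStalkOfMem x hx ≫ e.hom = Spec.map ψ := by
      rw [Spec.map_comp, ← Scheme.Opens.fromSpecStalkOfMem_toSpecΓ, Category.assoc]
      rfl
    rw [← h2, ← Scheme.Opens.fromSpecStalkOfMem_ι (stdOpen n K i) x hx, Category.assoc]
    refine congrArg _ ?_
    show e.hom ≫ e.inv ≫ (stdOpen n K i).ι = _
    rw [Iso.hom_inv_id_assoc]
  have hv : ProjMap.coords (R := K) i ψ.hom = ratioAt x i hx := funext fun a => by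
    have h : (MvPolynomial.X a : MvPolynomial (Fin (n + 1)) K) ∈ CohB1.polyGrading n K (1 • 1) := by
      simpa using ProjMap.X_mem (R := K) a
    show (ℙn).presheaf.germ _ x hx (Proj.awayToSection (CohB1.polyGrading n K) (MvPolynomial.X i)
      (HomogeneousLocalization.Away.mk _ (ProjMap.X_mem i) 1 (MvPolynomial.X a) h)) = _
    rw [show Proj.awayToSection (CohB1.polyGrading n K) (MvPolynomial.X i)
      (HomogeneousLocalization.Away.mk _ (ProjMap.X_mem i) 1 (MvPolynomial.X a) h) = coordRatio n K i a from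
      ProjCoh.awayToSection_ratio _ (coordForm n K i) (coordForm n K a)]
    rfl
  have hψ : ProjMap.IsAlg i ψ.hom := ProjMap.isAlg_of_toSpec i ψ.hom (by
    refine (Category.assoc _ _ _).symm.trans ?_
    refine (congrArg (· ≫ CohB1.ProjSpace.toSpec n K) h1).trans ?_
    exact fromSpecStalk_toSpec x)
  rw [← h1]
  refine ((ProjMap.point_coords i ψ.hom hψ).symm.trans ?_)
  congr 1

/-- Morphisms over the base agreeing at the generic point agree. -/
theorem ext_gen {f g : CohB1.ProjSpace n K ⟶ CohB1.ProjSpace n K}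
    (hf : f ≫ CohB1.ProjSpace.toSpec n K = CohB1.ProjSpace.toSpec n K)
    (hg : g ≫ CohB1.ProjSpace.toSpec n K = CohB1.ProjSpace.toSpec n K)
    (h : (ℙn).fromSpecStalk (gen n K) ≫ f = (ℙn).fromSpecStalk (gen n K) ≫ g) : f = g := by
  haveI : IsDominant ((ℙn).fromSpecStalk (gen n K)) := ⟨by
    refine dense_iff_closure_eq.2 (Set.eq_univ_of_univ_subset ?_)
    rw [← genericPoint_closure]
    refine closure_mono (Set.singleton_subset_iff.2 ?_)
    rw [Scheme.range_fromSpecStalk]
    exact specializes_rfl⟩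
  haveI : IsSeparated (CohB1.ProjSpace.toSpec n K) := inferInstance
  exact ext_of_isDominant_of_isSeparated (CohB1.ProjSpace.toSpec n K) (hf.trans hg.symm) _ h

/-- A linear form at the generic point. -/
def lform (c : Fin (n + 1) → K) : (ℙn).functionField := ∑ a, stalkCst (gen n K) (c a) * t n K 0 a

theorem lform_injective : Function.Injective (lform (K := K) (n := n)) := by
  intro c d h
  suffices ∀ e : Fin (n + 1) → K, lform e = 0 → e = 0 by
    refine sub_eq_zero.1 (this _ ?_)
    rw [← sub_eq_zero] at h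
    rw [← h]
    simp only [lform, Pi.sub_apply, map_sub, sub_mul, Finset.sum_sub_distrib]
  intro e he
  have hC : ∀ r, stalkCst (gen n K) r = φ n K 0 (MvPolynomial.C r) := fun r => by
    show (ℙn).presheaf.germ ⊤ _ trivial (ProjCoh.projφ (CohB1.polyGrading n K) r) =
      (ℙn).germToFunctionField (stdOpen n K 0) (chartEquiv n K 0 (MvPolynomial.C r))
    have h1 := ProjCoh.φV_projφ (CohB1.polyGrading n K) (ProjMap.X_mem (R := K) (0 : Fin (n + 1))) one_pos r
    refine Eq.trans ?_ (congrArg _ ((congrArg (Proj.awayToSection (CohB1.polyGrading n K) (MvPolynomial.X 0))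
      (show polyToAway n K 0 (MvPolynomial.C r) = constAway n K 0 r by rw [polyToAway, MvPolynomial.eval₂Hom_C])).trans h1.symm).symm)
    exact (TopCat.Presheaf.germ_res_apply _ (homOfLE le_top) _ (gen_mem n K) _).symm
  let p : MvPolynomial (Fin n) K := MvPolynomial.C (e 0) + ∑ k : Fin n, MvPolynomial.C (e k.succ) * MvPolynomial.X k
  have hp : φ n K 0 p = 0 := by
    rw [← he, lform, Fin.sum_univ_succ, t_self, mul_one, map_add, map_sum, hC]
    congr 1
    refine Finset.sum_congr rfl fun k _ => ?_
    rw [map_mul, φ_X, hC, Fin.succAbove_zero]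
  have hp0 : p = 0 := φ_injective n K 0 (hp.trans (map_zero _).symm)
  funext a
  refine Fin.cases ?_ (fun k => ?_) a
  · have := congrArg (MvPolynomial.constantCoeff) hp0
    simpa [p] using this
  · have h0 := congrArg (MvPolynomial.constantCoeff) hp0
    have := congrArg (MvPolynomial.eval fun l => if l = k then (1 : K) else 0) hp0
    simp [p] at this h0
    rw [h0, zero_add] at this
    exact this

theorem eq_zero_of_sum_ratio {y : CohB1.ProjSpace n K} (hy : y = gen n K) (hm : y ∈ stdOpen n K 0)
    (c : Fin (n + 1) → K) (h : ∑ b, stalkCst y (c b) * ratioAt y 0 hm b = 0) : c = 0 := by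
  subst hy
  exact lform_injective ((show lform c = 0 from h).trans (by simp [lform] : (0 : _) = lform (0 : Fin (n + 1) → K)))

/-- Global sections of `O(1)` are combinations of the coordinates. -/
theorem exists_eq_sum (f : Γ(Twist.twistProjSpace n K 1, ⊤)) :
    ∃ c : Fin (n + 1) → K, f = ∑ a, ProjCoh.projφ (CohB1.polyGrading n K) (c a) • sec (coordSec n K a) := by
  classical
  have hX : ∀ a, sec (coordSec n K a) = ProjTwist.polySec n K (coordForm n K a) := fun a =>
    Subtype.ext (funext fun x => Subtype.ext (by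
      refine (congrArg (_ * ·) ?_).trans (mul_one _)
      refine Eq.trans ?_ Localization.mk_one
      congr 1))
  obtain ⟨p, rfl⟩ := (ProjTwist.polySec_bijective n K 1).2 f
  refine ⟨fun a => p.1.coeff (Finsupp.single a 1), ?_⟩
  have hadd : ∀ q q' : CohB1.polyGrading n K 1,
      ProjTwist.polySec n K (q + q') = ProjTwist.polySec n K q + ProjTwist.polySec n K q' := fun q q' => by
    apply ProjTwist.L_top_injective n K (1 : ℕ)
    rw [map_add, ProjTwist.L_polySec, ProjTwist.L_polySec, ProjTwist.L_polySec]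
    exact map_add _ _ _
  let F : CohB1.polyGrading n K 1 →+ Γ(Twist.twistProjSpace n K 1, ⊤) :=
    AddMonoidHom.mk' (ProjTwist.polySec n K) hadd
  have hdec : p = ∑ a, p.1.coeff (Finsupp.single a 1) • coordForm n K a := by
    refine Subtype.ext ?_
    rw [AddSubmonoidClass.coe_finset_sum]
    refine MvPolynomial.ext _ _ fun d => ?_
    rw [MvPolynomial.coeff_sum]
    simp only [coordForm, SetLike.val_smul, MvPolynomial.coeff_smul, MvPolynomial.coeff_X, smul_eq_mul]
    by_cases hd : d.degree = 1
    · obtain ⟨b, rfl⟩ : ∃ b, d = Finsupp.single b 1 := by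
        obtain ⟨b, hb⟩ : ∃ b, d b ≠ 0 := by
          by_contra! h0
          rw [show d = 0 from Finsupp.ext h0, map_zero] at hd
          exact zero_ne_one hd
        have hle : Finsupp.single b 1 ≤ d := Finsupp.single_le_iff.2 (Nat.one_le_iff_ne_zero.2 hb)
        obtain ⟨d', rfl⟩ := le_iff_exists_add.1 hle
        rw [map_add, Finsupp.degree_single] at hd
        refine ⟨b, ?_⟩
        rw [(Finsupp.degree_eq_zero_iff d').1 (by omega), add_zero]
      rw [Finset.sum_eq_single b (fun a _ hab => by
        rw [if_neg (fun h => hab ((Finsupp.single_left_injective one_ne_zero) h)), mul_zero]) (by simp)]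
      simp
    · rw [(p.2 : p.1.IsHomogeneous 1).coeff_eq_zero (by simpa using hd)]
      refine (Finset.sum_eq_zero fun a _ => ?_).symm
      rw [if_neg (fun h => hd (by rw [← h, Finsupp.degree_single])), mul_zero]
  show F p = _
  conv_lhs => rw [hdec, map_sum]
  refine Finset.sum_congr rfl fun a _ => ?_
  exact (ProjTwist.polySec_smul n K 1 _ _).trans (congrArg (_ • ·) (hX a).symm)

theorem exists_forms (hn : n ≠ 0) (g : CohB1.ProjSpace n K ⟶ CohB1.ProjSpace n K) [IsIso g]
    (hg : g ≫ CohB1.ProjSpace.toSpec n K = CohB1.ProjSpace.toSpec n K) (hx : ∀ i, g (gen n K) ∈ stdOpen n K i) :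
    ∃ M : Matrix (Fin (n + 1)) (Fin (n + 1)) K, lform (M 0) ≠ 0 ∧ ∀ b,
      lform (M b) = g.stalkMap (gen n K) (ratioAt (g (gen n K)) 0 (hx 0) b) * lform (M 0) := by
  obtain ⟨ξ⟩ := ASBunKS.nonempty_pullback_twist hn g
    (E := K) (K := K) (@IsPullback.of_horiz_isIso _ _ _ _ _ _ _ _ _ _ inferInstance
      (by rw [Algebra.algebraMap_self]; exact (Spec.map_id (CommRingCat.of K)).symm ▸ inferInstanceAs (IsIso (𝟙 (Spec (CommRingCat.of K))))) ⟨by rw [hg, Algebra.algebraMap_self]; exact ((congrArg (_ ≫ ·) (Spec.map_id _)).trans (Category.comp_id _)).symm⟩) 1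
  let T := Twist.twistProjSpace n K 1
  choose c hc using fun b : Fin (n + 1) => exists_eq_sum (n := n) (K := K) (ξ.hom.app ⊤ (sec (pullS g (coordSec n K b))))
  refine ⟨c, ?_⟩
  let P := (Scheme.Modules.pullback g).obj T
  let G := fun b => P.presheaf.germ ⊤ (gen n K) trivial (sec (pullS g (coordSec n K b)))
  have hσ : ∀ b, stalkLin ξ.hom (gen n K) (G b) = lform (c b) • tau n K 0 := fun b => by
    rw [stalkLin_germ ξ.hom (gen n K) (U := ⊤) trivial, hc, map_sum, lform, Finset.sum_smul]
    refine Finset.sum_congr rfl fun a _ => ?_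
    rw [germ_smul', mul_smul, ← tau_eq n K 0 a, tau, resT, TopCat.Presheaf.germ_res_apply]
    rfl
  have hrel : ∀ b, G b = g.stalkMap (gen n K) (ratioAt (g (gen n K)) 0 (hx 0) b) • G 0 := fun b => by
    refine (coord_pullback_ratio g 0 b (gen n K) (hx 0)).trans ?_
    congr 1
    exact (Scheme.Hom.germ_stalkMap_apply g _ _ (hx 0) _).symm
  have hne : lform (c 0) ≠ 0 := by
    intro h0
    have hb : Function.Bijective fun r : (ℙn).presheaf.stalk (gen n K) => r • G 0 := by
      refine (mem_genLocus_iff (isInvertible_pullback g (isInvertible_twistOne n K))).1 ?_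
      rw [genLocus_pullS g (isInvertible_twistOne n K), genLocus_coordSec]
      exact hx 0
    have h1 : G 0 = 0 := by
      have hl : Function.Injective (stalkLin ξ.hom (gen n K)) :=
        Function.LeftInverse.injective (g := stalkLin ξ.inv (gen n K)) fun y => by
          have := congrArg (fun l => l y) (stalkLin_comp ξ.hom ξ.inv (gen n K))
          simp only [Iso.hom_inv_id] at this
          exact this.symm.trans (by rw [stalkLin_id]; rfl)
      refine hl ?_
      rw [hσ, h0, zero_smul, map_zero]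
    exact zero_ne_one (hb.1 (show (0 : _) • G 0 = 1 • G 0 by rw [h1, smul_zero, smul_zero]))
  refine ⟨hne, fun b => (bijective_tau n K 0).1 ?_⟩
  show lform (c b) • tau n K 0 = (_ * lform (c 0)) • tau n K 0
  rw [← hσ, hrel, map_smul, hσ, smul_smul]

theorem exists_eq_Lin (g : CohB1.ProjSpace n K ⟶ CohB1.ProjSpace n K) [IsIso g]
    (hg : g ≫ CohB1.ProjSpace.toSpec n K = CohB1.ProjSpace.toSpec n K) :
    ∃ M : GL (Fin (n + 1)) K, g = Lin M := by
  have hgen : g (gen n K) = gen n K := by
    refine ((genericPoint_spec (ℙn)).image g.continuous).eq ?_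
    rw [Set.image_univ, show Set.range g = Set.univ from g.homeomorph.surjective.range_eq, closure_univ]
    exact genericPoint_spec _
  have hx : ∀ i, g (gen n K) ∈ stdOpen n K i := fun i => by rw [hgen]; exact gen_mem n K
  letI alg : Algebra K ((ℙn).presheaf.stalk (gen n K)) := (stalkCst (gen n K)).toAlgebra
  letI alg' : Algebra K ((ℙn).presheaf.stalk (g (gen n K))) := (stalkCst (g (gen n K))).toAlgebra
  have hcompat : ∀ r, g.stalkMap (gen n K) (algebraMap K _ r) = algebraMap K _ r := fun r => by
    have h := congrArg (fun m : Spec ((ℙn).presheaf.stalk (gen n K)) ⟶ ℙn => m ≫ CohB1.ProjSpace.toSpec n K)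
      (Scheme.SpecMap_stalkMap_fromSpecStalk g (x := gen n K))
    simp only [Category.assoc, hg, fromSpecStalk_toSpec, ← Spec.map_comp] at h
    exact DFunLike.congr_fun (congrArg CommRingCat.Hom.hom (Spec.map_injective h)) r
  have hgp : (ℙn).fromSpecStalk (gen n K) ≫ g = ProjMap.point (R := K)
      (fun b => g.stalkMap (gen n K) (ratioAt (g (gen n K)) 0 (hx 0) b)) 0
      (by rw [ratioAt_self, map_one]; exact isUnit_one) := by
    rw [← Scheme.SpecMap_stalkMap_fromSpecStalk, fromSpecStalk_eq_point _ 0 (hx 0)]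
    exact ProjMap.specMap_point (g.stalkMap (gen n K)).hom hcompat _ 0 _
  by_cases hn : n = 0
  · subst hn
    refine ⟨1, ?_⟩
    rw [Lin_one]
    refine ext_gen hg (Category.id_comp _) ?_
    rw [hgp, Category.comp_id, fromSpecStalk_eq_point _ 0 (gen_mem 0 K)]
    congr 1
    funext b
    rw [Fin.fin_one_eq_zero b, ratioAt_self, ratioAt_self, map_one]
  obtain ⟨M, hM0, hM⟩ := exists_forms hn g hg hx
  have hdet : IsUnit M := by
    rw [← Matrix.mulVec_injective_iff_isUnit, Matrix.mulVec_injective_iff]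
    have hrows : LinearIndependent K M := by
      rw [Fintype.linearIndependent_iff]
      intro c hc
      have h1 : ∑ b, stalkCst (gen n K) (c b) * lform (M b) = 0 := by
        have hh : ∀ b, stalkCst (gen n K) (c b) * lform (M b) = ∑ a, stalkCst (gen n K) (c b * M b a) * t n K 0 a :=
          fun b => by simp only [lform, Finset.mul_sum, map_mul, mul_assoc]
        simp only [hh]
        rw [Finset.sum_comm]
        simp only [← Finset.sum_mul, ← map_sum]
        refine Finset.sum_eq_zero fun a _ => ?_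
        have := congrFun hc a
        simp only [Finset.sum_apply, Pi.smul_apply, smul_eq_mul, Pi.zero_apply] at this
        rw [this, map_zero, zero_mul]
      rw [Finset.sum_congr rfl fun b _ => by rw [hM b, ← mul_assoc], ← Finset.sum_mul] at h1
      have h2 := (mul_eq_zero.1 h1).resolve_right hM0
      have h3 : g.stalkMap (gen n K) (∑ b, stalkCst (g (gen n K)) (c b) * ratioAt (g (gen n K)) 0 (hx 0) b) = 0 := by
        rw [map_sum, ← h2]
        exact Finset.sum_congr rfl fun b _ => by
          rw [map_mul]; exact congrArg (· * _) (hcompat (c b))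
      have h4 : (∑ b, stalkCst (g (gen n K)) (c b) * ratioAt (g (gen n K)) 0 (hx 0) b) = 0 :=
        (ConcreteCategory.bijective_of_isIso (g.stalkMap (gen n K))).1 (h3.trans (map_zero _).symm)
      exact fun b => congrFun (eq_zero_of_sum_ratio hgen (hx 0) c h4) b
    exact Matrix.linearIndependent_cols_iff_isUnit.2 (Matrix.linearIndependent_rows_iff_isUnit.1 hrows)
  refine ⟨hdet.unit, ext_gen hg (toSpec_Lin _) ?_⟩
  rw [hgp, fromSpecStalk_eq_point _ 0 (gen_mem n K),
    point_Lin hdet.unit _ 0 _ (fun b => lform (M b)) ?_ 0 (IsUnit.mk0 _ hM0)]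
  · refine (ProjMap.point_smul _ _ (lform (M 0)) (fun b => ?_) 0 _ _).symm
    rw [hM b]; ring
  · funext b
    rfl

theorem exists_smul_of_point_eq {R A : Type u} [CommRing R] [CommRing A] [Algebra R A] {v w : Fin (n + 1) → A}
    {c d : Fin (n + 1)} (hv : IsUnit (v c)) (hw : IsUnit (w d))
    (h : ProjMap.point (R := R) v c hv = ProjMap.point w d hw) : ∃ s : A, ∀ i, w i = s * v i := by
  have e1 : ∀ (v : Fin (n + 1) → A) (c : Fin (n + 1)) (hv : IsUnit (v c)) (i),
      ProjMap.coords (R := R) c (ProjMap.evalAway v (MvPolynomial.X c) (by simpa using hv)) i * v c = v i :=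
    fun v c hv i => by
      have := ProjMap.evalAway_mk (v := v) (ProjMap.X_mem c) (by simpa using hv) 1 (MvPolynomial.X i)
        (by simpa using ProjMap.X_mem (R := R) i)
      simpa [ProjMap.coords] using this
  obtain ⟨t, -, ht⟩ := ProjMap.exists_smul_of_comp_eq _ _ h
  have hinv := hv.val_inv_mul
  refine ⟨t * w d * ↑hv.unit⁻¹, fun i => ?_⟩
  have h1 := e1 v c hv i
  have h2 := e1 w d hw i
  have h3 : ProjMap.coords (R := R) d (ProjMap.evalAway w (MvPolynomial.X d) (by simpa using hw)) i =
    t * ProjMap.coords (R := R) c (ProjMap.evalAway v (MvPolynomial.X c) (by simpa using hv)) i := ht i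
  generalize ProjMap.coords (R := R) c (ProjMap.evalAway v (MvPolynomial.X c) (by simpa using hv)) i = p at h1 h3
  generalize ProjMap.coords (R := R) d (ProjMap.evalAway w (MvPolynomial.X d) (by simpa using hw)) i = q at h2 h3
  rw [← h2, h3, ← h1]
  linear_combination (-(t * w d * p)) * hinv

theorem exists_scalar_of_Lin_eq_id {M : GL (Fin (n + 1)) K} (h : Lin M = 𝟙 ℙn) :
    ∃ r : Kˣ, Units.map (Matrix.scalar (Fin (n + 1)) : K →+* Matrix (Fin (n + 1)) (Fin (n + 1)) K).toMonoidHom r = M := by
  let Mm : Matrix (Fin (n + 1)) (Fin (n + 1)) K := M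
  have key : ∀ (v : Fin (n + 1) → K), v ≠ 0 → ∃ s : K, Matrix.mulVec Mm v = s • v := by
    intro v hv
    obtain ⟨c, hc⟩ : ∃ c, v c ≠ 0 := Function.ne_iff.1 hv
    have hne : Matrix.mulVec Mm v ≠ 0 := fun h0 => hv
      (Matrix.mulVec_injective_iff_isUnit.2 M.isUnit (h0.trans (Matrix.mulVec_zero Mm).symm))
    obtain ⟨a, ha⟩ : ∃ a, Matrix.mulVec Mm v a ≠ 0 := Function.ne_iff.1 hne
    have h1 := point_Lin (A := K) M v c (IsUnit.mk0 _ hc) (Matrix.mulVec Mm v) (by simp [Mm]) a (IsUnit.mk0 _ ha)
    rw [h, Category.comp_id] at h1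
    obtain ⟨s, hs⟩ := exists_smul_of_point_eq _ _ h1
    exact ⟨s, funext hs⟩
  choose s hs using fun c => key (Pi.single c 1) (by simp)
  obtain ⟨r, hr⟩ := key (fun _ => 1) (fun h0 => one_ne_zero (congrFun h0 0))
  have hcol : ∀ i c, Mm i c = if i = c then s c else 0 := fun i c => by
    have := congrFun (hs c) i
    simpa [Pi.single_apply] using this
  have hrr : ∀ c, s c = r := fun c => by
    have := congrFun hr c
    simpa [Matrix.mulVec, dotProduct, hcol] using this
  have hr0 : r ≠ 0 := fun h0 => M.ne_zero (Matrix.ext fun i c => by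
    show Mm i c = 0
    simp [hcol, hrr, h0])
  refine ⟨Units.mk0 r hr0, Units.ext (Matrix.ext fun i c => ?_)⟩
  show Matrix.scalar (Fin (n + 1)) r i c = Mm i c
  simp [Matrix.scalar, Matrix.diagonal_apply, hcol, hrr]

end Groth.Agent.PnAutLib
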